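import Mathlib.AlgebraicGeometry.Morphisms.Etale
import Mathlib.AlgebraicGeometry.Morphisms.FormallyUnramified
import Mathlib.AlgebraicGeometry.Morphisms.ClosedImmersion
import Mathlib.AlgebraicGeometry.PullbackCarrier
import Mathlib.RingTheory.Unramified.LocalStructure
import Groth.Prelude.Def_EtGlue

/-!
# Monomorphisms locally of finite type with sections over the two pieces of a glueing pair
-/

universe u

set_option backward.isDefEq.respectTransparency.types false

open CategoryTheory CategoryTheory.Limits AlgebraicGeometry TensorProduct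

namespace Groth.Agent.GluePair25

/-- The graph of an etale neighbourhood inside a monomorphism is open. -/
theorem isOpenImmersion_fst {T P E B S : Scheme.{u}} (e : E ⟶ S) [Mono e] (ι : B ⟶ E) [IsOpenImmersion ι]
    (π : P ⟶ S) [Etale π] (i : B ⟶ P) (hi : i ≫ π = ι ≫ e) (t : T ⟶ P) (s : T ⟶ E) (hs : s ≫ e = t ≫ π) :
    IsOpenImmersion (pullback.fst t i) := by
  let m : pullback t i ⟶ pullback s ι := pullback.lift (pullback.fst t i) (pullback.snd t i) (by
    rw [← cancel_mono e, Category.assoc, Category.assoc, hs, ← hi, pullback.condition_assoc])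
  have hw : (pullback.fst s ι ≫ t) ≫ π = (pullback.snd s ι ≫ i) ≫ π := by
    rw [Category.assoc, Category.assoc, hi, ← hs, pullback.condition_assoc]
  let q : pullback s ι ⟶ pullback π π := pullback.lift _ _ hw
  have hm₁ : m ≫ pullback.fst s ι = pullback.fst t i := pullback.lift_fst _ _ _
  have hm₂ : m ≫ pullback.snd s ι = pullback.snd t i := pullback.lift_snd _ _ _
  have hq₁ : q ≫ pullback.fst π π = pullback.fst s ι ≫ t := pullback.lift_fst _ _ _
  have hq₂ : q ≫ pullback.snd π π = pullback.snd s ι ≫ i := pullback.lift_snd _ _ _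
  have w : m ≫ q = (pullback.fst t i ≫ t) ≫ pullback.diagonal π := by
    apply pullback.hom_ext
    · rw [Category.assoc, hq₁, reassoc_of% hm₁, Category.assoc, pullback.diagonal_fst, Category.comp_id]
    · rw [Category.assoc, hq₂, reassoc_of% hm₂, Category.assoc, pullback.diagonal_snd, Category.comp_id,
        pullback.condition]
  have he₁ : ∀ c : PullbackCone q (pullback.diagonal π), (c.fst ≫ pullback.fst s ι) ≫ t = c.snd := fun c => by
    have := c.condition =≫ pullback.fst π π
    rw [Category.assoc, Category.assoc, pullback.diagonal_fst, Category.comp_id, hq₁] at this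
    rw [Category.assoc]; exact this
  have he₂ : ∀ c : PullbackCone q (pullback.diagonal π), (c.fst ≫ pullback.snd s ι) ≫ i = c.snd := fun c => by
    have := c.condition =≫ pullback.snd π π
    rw [Category.assoc, Category.assoc, pullback.diagonal_snd, Category.comp_id, hq₂] at this
    rw [Category.assoc]; exact this
  have sq : IsPullback m (pullback.fst t i ≫ t) q (pullback.diagonal π) :=
    ⟨⟨w⟩, ⟨PullbackCone.IsLimit.mk w (fun c => pullback.lift (c.fst ≫ pullback.fst s ι)
      (c.fst ≫ pullback.snd s ι) ((he₁ c).trans (he₂ c).symm))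
      (fun c => by
        apply pullback.hom_ext
        · rw [Category.assoc, hm₁, pullback.lift_fst]
        · rw [Category.assoc, hm₂, pullback.lift_snd])
      (fun c => by rw [pullback.lift_fst_assoc, he₁ c])
      (fun c r h₁ h₂ => by
        apply pullback.hom_ext
        · rw [pullback.lift_fst, ← hm₁, reassoc_of% h₁]
        · rw [pullback.lift_snd, ← hm₂, reassoc_of% h₁])⟩⟩
  have : IsOpenImmersion m := MorphismProperty.of_isPullback (P := @IsOpenImmersion) sq.flip inferInstance
  have : pullback.fst t i = m ≫ pullback.fst s ι := (pullback.lift_fst _ _ _).symm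
  rw [this]
  infer_instance

/-- An idempotent generating an ideal whose zero locus is open and schematically so. -/
theorem exists_idempotent_of_isOpenImmersion {A T B : Type u} [CommRing A] [CommRing T] [CommRing B]
    [Algebra A T] (φ : A →+* B) (hφ : Function.Surjective φ)
    (h : IsOpenImmersion (pullback.fst (Spec.map (CommRingCat.ofHom (algebraMap A T)))
      (Spec.map (CommRingCat.ofHom φ)))) :
    ∃ a : T, IsIdempotentElem a ∧ (RingHom.ker φ).map (algebraMap A T) = Ideal.span {a} := by
  set i := Spec.map (CommRingCat.ofHom φ) with hidef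
  set t := Spec.map (CommRingCat.ofHom (algebraMap A T)) with htdef
  let J : Ideal T := (RingHom.ker φ).map (algebraMap A T)
  have : IsClosedImmersion i := IsClosedImmersion.spec_of_surjective _ hφ
  have hr : Set.range (pullback.fst t i) = PrimeSpectrum.zeroLocus (J : Set T) := by
    rw [Scheme.Pullback.range_fst]
    have : Set.range i = PrimeSpectrum.zeroLocus (RingHom.ker φ : Set A) :=
      range_comap_of_surjective _ φ hφ
    rw [this]
    refine Eq.trans ?_ (PrimeSpectrum.zeroLocus_span (s := algebraMap A T '' (RingHom.ker φ : Set A))).symm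
    exact PrimeSpectrum.preimage_comap_zeroLocus _ _
  have hco : IsClopen (PrimeSpectrum.zeroLocus (J : Set T)) :=
    ⟨PrimeSpectrum.isClosed_zeroLocus _, hr ▸ (pullback.fst t i).isOpenEmbedding.isOpen_range⟩
  obtain ⟨c, hc, hce⟩ := PrimeSpectrum.exists_idempotent_basicOpen_eq_of_isClopen hco
  refine ⟨1 - c, hc.one_sub, le_antisymm ?_ ?_⟩
  · rw [Ideal.map_le_iff_le_comap]
    intro k hk
    let j := Spec.map (CommRingCat.ofHom (algebraMap T (Localization.Away c)))
    have hle : Set.range j ⊆ Set.range (pullback.fst t i) := by
      rw [hr, hce]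
      exact (PrimeSpectrum.localization_away_comap_range _ c).subset
    let l := IsOpenImmersion.lift (pullback.fst t i) j hle
    have e : j ≫ t = (l ≫ pullback.snd t i) ≫ i := by
      rw [Category.assoc, ← pullback.condition, IsOpenImmersion.lift_fac_assoc]
    obtain ⟨g, hg⟩ := Spec.map_surjective (l ≫ pullback.snd t i)
    rw [← hg, htdef, hidef, ← Spec.map_comp, ← Spec.map_comp] at e
    have e' := RingHom.congr_fun (congrArg CommRingCat.Hom.hom (Spec.map_injective e)) k
    have h0 : algebraMap T (Localization.Away c) (algebraMap A T k) = 0 := e'.trans (by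
      show g.hom (φ k) = 0
      rw [RingHom.mem_ker.1 hk, map_zero])
    obtain ⟨⟨_, n, rfl⟩, hn⟩ := (IsLocalization.map_eq_zero_iff (Submonoid.powers c) _ _).1 h0
    have h1 : c * algebraMap A T k = 0 := by
      cases n with
      | zero => simp only [pow_zero, one_mul] at hn; rw [hn, mul_zero]
      | succ n => simpa [hc.pow_succ_eq] using hn
    exact Ideal.mem_span_singleton.2 ⟨algebraMap A T k, by linear_combination h1⟩
  · rw [Ideal.span_le, Set.singleton_subset_iff]
    have hu : IsUnit (Ideal.Quotient.mk J c) := by
      by_contra hn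
      obtain ⟨m, hm, hcm⟩ := exists_max_ideal_of_mem_nonunits hn
      have : (⟨m.comap (Ideal.Quotient.mk J), inferInstance⟩ : PrimeSpectrum T) ∈
          PrimeSpectrum.zeroLocus (J : Set T) := fun x hx => by
        simp [Ideal.Quotient.eq_zero_iff_mem.2 hx]
      rw [hce] at this
      exact this hcm
    show 1 - c ∈ J
    rw [← Ideal.Quotient.eq_zero_iff_mem]
    refine hu.mul_right_eq_zero.1 ?_
    rw [← map_mul, show c * (1 - c) = 0 by rw [mul_sub, mul_one, hc.eq, sub_self], map_zero]

end Groth.Agent.GluePair25
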