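import Groth.Agent.Lib.GluePair25.Clopen
import Mathlib.RingTheory.Localization.Away.Basic
import Mathlib.RingTheory.RingHom.Etale

/-!
# Etale local lifts into monomorphisms along glueing pairs
-/

universe u

set_option backward.isDefEq.respectTransparency.types false

open CategoryTheory CategoryTheory.Limits AlgebraicGeometry TensorProduct

namespace Groth.Agent.GluePair25

variable {R R' : Type u} [CommRing R] [CommRing R'] [Algebra R R'] {f : R}

/-- An algebra lies over one of the two pieces of a glueing pair. -/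
def HasPiece (R' : Type u) [CommRing R'] [Algebra R R'] (f : R) (T : Type u) [CommRing T] [Algebra R T] : Prop :=
  IsUnit (algebraMap R T f) ∨ Nonempty (R' →ₐ[R] T)

/-- An algebra killed by `f` lies over the completed piece. -/
theorem exists_algHom_of_eq_zero (hq : EtGlue.QuotPowBijective R R' f) {T : Type u} [CommRing T] [Algebra R T]
    (hf : algebraMap R T f = 0) : Nonempty (R' →ₐ[R] T) := by
  let E := RingEquiv.ofBijective _ (hq 1 one_pos)
  let q : R ⧸ Ideal.span {f ^ 1} →+* T := Ideal.Quotient.lift _ (algebraMap R T) (fun r hr => by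
    obtain ⟨c, rfl⟩ := Ideal.mem_span_singleton.1 hr
    rw [map_mul, pow_one, hf, zero_mul])
  let φ : R' →+* T := q.comp (E.symm.toRingHom.comp (Ideal.Quotient.mk _))
  refine ⟨⟨φ, fun r => ?_⟩⟩
  have h : E.symm (Ideal.Quotient.mk _ (algebraMap R R' r)) = Ideal.Quotient.mk _ r := by
    rw [RingEquiv.symm_apply_eq]
    rfl
  show q (E.symm (Ideal.Quotient.mk _ (algebraMap R R' r))) = algebraMap R T r
  rw [h]
  rfl

/-- An ideal generated by an idempotent on both pieces is killed near any of its primes. -/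
theorem exists_kills (hq : EtGlue.QuotPowBijective R R' f) {A : Type u} [CommRing A] [Algebra R A]
    (hA : EtGlue.IsGlueable R R' f A) (J p : Ideal A) [p.IsPrime] (hJp : J ≤ p)
    {a : Localization.Away (algebraMap R A f)} (ha : IsIdempotentElem a)
    (hJa : J.map (algebraMap A (Localization.Away (algebraMap R A f))) = Ideal.span {a})
    {a' : R' ⊗[R] A} (ha' : IsIdempotentElem a')
    (hJa' : J.map (Algebra.TensorProduct.includeRight : A →ₐ[R] R' ⊗[R] A).toRingHom = Ideal.span {a'}) :
    ∃ ee ∉ p, ∀ k ∈ J, k * ee = 0 := by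
  let inc : A →ₐ[R] R' ⊗[R] A := Algebra.TensorProduct.includeRight
  let g : R' ⊗[R] A := inc (algebraMap R A f)
  have hu : IsUnit (((algebraMap (R' ⊗[R] A) (Localization.Away g)).comp inc.toRingHom) (algebraMap R A f)) :=
    IsLocalization.Away.algebraMap_isUnit g
  let μ : Localization.Away (algebraMap R A f) →+* Localization.Away g :=
    IsLocalization.Away.lift (algebraMap R A f) hu
  have hμ : ∀ b : A, μ (algebraMap A _ b) = algebraMap _ _ (inc b) := fun b => IsLocalization.Away.lift_eq _ hu b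
  have hab : μ a = algebraMap _ _ a' := by
    have h1 : Ideal.span {μ a} = Ideal.span {algebraMap (R' ⊗[R] A) (Localization.Away g) a'} := by
      rw [← Set.image_singleton, ← Ideal.map_span, ← hJa, ← Set.image_singleton, ← Ideal.map_span, ← hJa',
        Ideal.map_map, Ideal.map_map]
      exact congrArg (fun ρ => Ideal.map ρ J) (RingHom.ext hμ)
    have hi : ∀ {S : Type u} [CommRing S] (x y : S), IsIdempotentElem x → y ∈ Ideal.span {x} → x * y = y := by
      intro S _ x y hx hy
      obtain ⟨c, rfl⟩ := Ideal.mem_span_singleton.1 hy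
      rw [← mul_assoc, hx.eq]
    calc μ a = algebraMap _ _ a' * μ a :=
          (hi _ _ (ha'.map (algebraMap _ _)) (h1 ▸ Ideal.mem_span_singleton_self _)).symm
      _ = μ a * algebraMap _ _ a' := mul_comm _ _
      _ = algebraMap _ _ a' := hi _ _ (ha.map μ) (h1 ▸ Ideal.mem_span_singleton_self _)
  obtain ⟨⟨x, s, n, rfl⟩, hx⟩ := IsLocalization.surj (Submonoid.powers (algebraMap R A f)) a
  simp only at hx
  have hx' : algebraMap _ (Localization.Away g) (g ^ n * a') = algebraMap _ _ (inc x) := by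
    rw [← hμ x, ← hx, map_mul μ, hμ, map_mul, hab, map_pow inc, mul_comm]
  obtain ⟨⟨_, m, rfl⟩, hm⟩ := (IsLocalization.eq_iff_exists (Submonoid.powers g) _).1 hx'
  obtain ⟨a₀, h0, h0'⟩ := hA.2 a' (LocalizedModule.mk x ⟨f ^ n, n, rfl⟩) (by
    apply IsLocalizedModule.smul_injective (EtGlue.locOfTensor R R' f A)
      (⟨f ^ n, n, rfl⟩ : Submonoid.powers f)
    show (f ^ n) • EtGlue.locOfTensor R R' f A a' = (f ^ n) • EtGlue.tensorOfLoc R R' f A _
    rw [← map_smul, ← map_smul, LocalizedModule.smul'_mk]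
    have hxx : LocalizedModule.mk (f ^ n • x) (⟨f ^ n, n, rfl⟩ : Submonoid.powers f) =
        LocalizedModule.mkLinearMap (Submonoid.powers f) A x :=
      LocalizedModule.mk_cancel (⟨f ^ n, n, rfl⟩ : Submonoid.powers f) x
    rw [hxx]
    refine Eq.trans ?_ (IsLocalizedModule.map_apply (Submonoid.powers f) _ _ _ _).symm
    refine (IsLocalizedModule.eq_iff_exists (Submonoid.powers f) (EtGlue.locOfTensor R R' f A)).2
      ⟨⟨f ^ m, m, rfl⟩, ?_⟩
    show f ^ m • (f ^ n • a') = f ^ m • ((1 : R') ⊗ₜ[R] x)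
    simpa [Algebra.smul_def, g, inc, map_pow] using hm)
  have haa : algebraMap A (Localization.Away (algebraMap R A f)) a₀ = a := by
    obtain ⟨⟨_, l, rfl⟩, hl⟩ := LocalizedModule.mk_eq.1 h0'
    refine (IsLocalization.Away.algebraMap_isUnit (algebraMap R A f)).pow n |>.mul_left_injective ?_
    simp only
    rw [← map_pow (algebraMap A (Localization.Away (algebraMap R A f))), hx, ← map_mul]
    refine (IsLocalization.eq_iff_exists (Submonoid.powers (algebraMap R A f)) _).2 ⟨⟨_, l, rfl⟩, ?_⟩
    simp only [Submonoid.smul_def, Algebra.smul_def, map_pow, OneMemClass.coe_one, one_mul, map_one, mul_one] at hl ⊢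
    rw [← hl]; ring
  refine ⟨1 - a₀, fun hp => ?_, fun k hk => ?_⟩
  · have h₀ : a₀ ∈ p := by
      by_cases hf : algebraMap R A f ∈ p
      · obtain ⟨ρ⟩ := exists_algHom_of_eq_zero (T := A ⧸ p) hq (Ideal.Quotient.eq_zero_iff_mem.2 hf)
        let ψ : R' ⊗[R] A →ₐ[R] A ⧸ p := Algebra.TensorProduct.lift ρ (Ideal.Quotient.mkₐ R p)
          (fun _ _ => Commute.all _ _)
        have hz : J.map inc.toRingHom ≤ RingHom.ker ψ.toRingHom := Ideal.map_le_iff_le_comap.2 fun b hb => by
          simp [ψ, inc, Ideal.Quotient.eq_zero_iff_mem.2 (hJp hb)]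
        have := hz (hJa'.symm ▸ Ideal.mem_span_singleton_self a' : a' ∈ J.map inc.toRingHom)
        rw [← h0] at this
        simpa [ψ, Ideal.Quotient.eq_zero_iff_mem] using this
      · have := (hJa.symm ▸ Ideal.mem_span_singleton_self a : a ∈ J.map _)
        rw [← haa, IsLocalization.algebraMap_mem_map_algebraMap_iff (Submonoid.powers (algebraMap R A f))] at this
        obtain ⟨_, ⟨l, rfl⟩, hl⟩ := this
        exact (‹p.IsPrime›.mem_or_mem (hJp hl)).resolve_left fun h => hf (‹p.IsPrime›.mem_of_pow_mem _ h)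
    exact ‹p.IsPrime›.ne_top ((Ideal.eq_top_iff_one _).2 (by simpa using p.add_mem hp h₀))
  · refine hA.1 (Prod.ext ?_ ?_)
    · show (1 : R') ⊗ₜ[R] (k * (1 - a₀)) = (1 : R') ⊗ₜ[R] (0 : A)
      show inc (k * (1 - a₀)) = inc 0
      rw [map_mul, map_sub, map_one, map_zero, show inc a₀ = a' from h0]
      obtain ⟨c, hc⟩ := Ideal.mem_span_singleton.1 (hJa' ▸ Ideal.mem_map_of_mem _ hk : inc k ∈ _)
      rw [hc, mul_comm a' c, mul_assoc, mul_sub, mul_one, ha'.eq, sub_self, mul_zero]
    · show LocalizedModule.mkLinearMap (Submonoid.powers f) A (k * (1 - a₀)) =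
        LocalizedModule.mkLinearMap (Submonoid.powers f) A 0
      obtain ⟨c, hc⟩ := Ideal.mem_span_singleton.1 (hJa ▸ Ideal.mem_map_of_mem (algebraMap A _) hk)
      have h1 : algebraMap A (Localization.Away (algebraMap R A f)) (k * (1 - a₀)) = 0 := by
        rw [map_mul, map_sub, map_one, haa, hc, mul_comm a c, mul_assoc, mul_sub, mul_one, ha.eq, sub_self, mul_zero]
      obtain ⟨⟨_, l, rfl⟩, hl⟩ := (IsLocalization.map_eq_zero_iff (Submonoid.powers (algebraMap R A f)) _ _).1 h1
      refine (IsLocalizedModule.eq_iff_exists (Submonoid.powers f) _).2 ⟨⟨_, l, rfl⟩, ?_⟩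
      simpa [Submonoid.smul_def, Algebra.smul_def] using hl

/-- A monomorphism locally of finite type with compatible sections over the two pieces has sections etale
locally. -/
theorem exists_etale_lift (hq : EtGlue.QuotPowBijective R R' f) {A : Type u} [CommRing A] [Algebra R A]
    (hglue : ∀ (B : Type u) [CommRing B] [Algebra R B] (φ : A →ₐ[R] B), φ.toRingHom.Etale →
      EtGlue.IsGlueable R R' f B)
    {E : Scheme.{u}} (e : E ⟶ Spec (CommRingCat.of A)) [Mono e] [LocallyOfFiniteType e]
    (hsec : ∀ (T : Type u) [CommRing T] [Algebra R T] (φ : A →ₐ[R] T), HasPiece R' f T →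
      ∃ s : Spec (CommRingCat.of T) ⟶ E, s ≫ e = Spec.map (CommRingCat.ofHom φ.toRingHom))
    (x : PrimeSpectrum A) :
    ∃ (B : Type u) (_ : CommRing B) (_ : Algebra R B) (φ : A →ₐ[R] B), φ.toRingHom.Etale ∧
      x ∈ Set.range (PrimeSpectrum.comap φ.toRingHom) ∧
      ∃ l : Spec (CommRingCat.of B) ⟶ E, l ≫ e = Spec.map (CommRingCat.ofHom φ.toRingHom) := by
  let κ := x.asIdeal.ResidueField
  obtain ⟨sx, hsx⟩ := hsec κ (IsScalarTower.toAlgHom R A κ) (by
    by_cases hf : algebraMap R A f ∈ x.asIdeal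
    · refine Or.inr (exists_algHom_of_eq_zero hq ?_)
      rw [IsScalarTower.algebraMap_apply R A κ]
      exact (Ideal.algebraMap_residueField_eq_zero).2 hf
    · refine Or.inl (IsUnit.mk0 _ ?_)
      rw [IsScalarTower.algebraMap_apply R A κ]
      exact fun h => hf ((Ideal.algebraMap_residueField_eq_zero).1 h))
  let pt : (Spec (CommRingCat.of κ) : Scheme.{u}) := (⊥ : PrimeSpectrum κ)
  have hpt : e (sx pt) = x := by
    rw [← Scheme.Hom.comp_apply, hsx]
    exact PrimeSpectrum.ext (by
      change Ideal.comap (algebraMap A κ) ⊥ = x.asIdeal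
      exact Ideal.ker_algebraMap_residueField _)
  obtain ⟨_, ⟨V, hV, rfl⟩, hxV, -⟩ :=
    E.isBasis_affineOpens.exists_subset_of_mem_open (Set.mem_univ (sx pt)) isOpen_univ
  obtain ⟨q, hqV⟩ : sx pt ∈ Set.range hV.fromSpec := hV.range_fromSpec.symm ▸ hxV
  let Bv : CommRingCat.{u} := Γ(E, V)
  let ψ : CommRingCat.of A ⟶ Bv := Spec.preimage (hV.fromSpec ≫ e)
  have hψ : Spec.map ψ = hV.fromSpec ≫ e := Spec.map_preimage _
  letI : Algebra A Bv := ψ.hom.toAlgebra
  have : FormallyUnramified (Spec.map ψ) := by rw [hψ]; infer_instance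
  have : LocallyOfFiniteType (Spec.map ψ) := by rw [hψ]; infer_instance
  have : Algebra.FiniteType A Bv := (HasRingHomProperty.Spec_iff (P := @LocallyOfFiniteType) (φ := ψ)).1 ‹_›
  have : Algebra.FormallyUnramified A Bv := (HasRingHomProperty.Spec_iff (P := @FormallyUnramified) (φ := ψ)).1 ‹_›
  obtain ⟨g, hg, P, φ₀, hφ₀⟩ :=
    Algebra.IsUnramifiedAt.exists_hasStandardEtaleSurjectionOn (R := A) (q : PrimeSpectrum Bv).asIdeal
  obtain ⟨Q, hQ⟩ : (q : PrimeSpectrum Bv) ∈ Set.range (PrimeSpectrum.comap (algebraMap Bv (Localization.Away g))) := by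
    rw [PrimeSpectrum.localization_away_comap_range _ g]
    exact hg
  letI : Algebra R P.Ring := Algebra.compHom P.Ring (algebraMap R A)
  haveI : IsScalarTower R A P.Ring := IsScalarTower.of_algebraMap_eq fun _ => rfl
  let ι : Spec (CommRingCat.of (Localization.Away g)) ⟶ E :=
    Spec.map (CommRingCat.ofHom (algebraMap Bv (Localization.Away g))) ≫ hV.fromSpec
  let i := Spec.map (CommRingCat.ofHom φ₀.toRingHom)
  let π := Spec.map (CommRingCat.ofHom (algebraMap A P.Ring))
  have : IsOpenImmersion (Spec.map (CommRingCat.ofHom (algebraMap Bv (Localization.Away g)))) :=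
    IsOpenImmersion.of_isLocalization g
  have hπe : (algebraMap A P.Ring).Etale := RingHom.etale_algebraMap.2 inferInstance
  have : Etale π := (HasRingHomProperty.Spec_iff (P := @Etale)).2 hπe
  have hi : i ≫ π = ι ≫ e := by
    simp only [i, π, ι, Category.assoc, ← hψ, ← Spec.map_comp]
    congr 1
    ext b
    exact (φ₀.commutes b).trans (IsScalarTower.algebraMap_apply A Bv (Localization.Away g) b)
  let pp : Ideal P.Ring := Q.asIdeal.comap φ₀.toRingHom
  have key : ∀ (T : Type u) [CommRing T] [Algebra P.Ring T] [Algebra R T] [IsScalarTower R P.Ring T],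
      HasPiece R' f T → ∃ a : T, IsIdempotentElem a ∧
        (RingHom.ker φ₀.toRingHom).map (algebraMap P.Ring T) = Ideal.span {a} := by
    intro T _ _ _ _ hT
    obtain ⟨s, hs⟩ := hsec T ((IsScalarTower.toAlgHom R P.Ring T).comp (IsScalarTower.toAlgHom R A P.Ring)) hT
    refine exists_idempotent_of_isOpenImmersion _ hφ₀ (isOpenImmersion_fst e ι π i hi _ s ?_)
    rw [hs, ← Spec.map_comp]
    rfl
  obtain ⟨a, ha, hJa⟩ := key (Localization.Away (algebraMap R P.Ring f)) (Or.inl (by
    rw [IsScalarTower.algebraMap_apply R P.Ring]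
    exact IsLocalization.Away.algebraMap_isUnit (algebraMap R P.Ring f)))
  letI : Algebra P.Ring (R' ⊗[R] P.Ring) := Algebra.TensorProduct.rightAlgebra
  haveI : IsScalarTower R P.Ring (R' ⊗[R] P.Ring) :=
    IsScalarTower.of_algebraMap_eq fun r =>
      ((Algebra.TensorProduct.includeRight : P.Ring →ₐ[R] R' ⊗[R] P.Ring).commutes r).symm
  obtain ⟨a', ha', hJa'⟩ := key (R' ⊗[R] P.Ring) (Or.inr ⟨Algebra.TensorProduct.includeLeft⟩)
  obtain ⟨ee, hee, hkill⟩ := exists_kills hq
    (hglue P.Ring (IsScalarTower.toAlgHom R A P.Ring) hπe) (RingHom.ker φ₀.toRingHom) pp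
    (Ideal.ker_le_comap _) ha hJa ha' hJa'
  let B := Localization.Away ee
  refine ⟨B, inferInstance, inferInstance, (IsScalarTower.toAlgHom R P.Ring B).comp
    (IsScalarTower.toAlgHom R A P.Ring), ?_, ?_, ?_⟩
  · exact RingHom.Etale.stableUnderComposition _ _ hπe (RingHom.etale_algebraMap.2 (Algebra.Etale.of_isLocalizationAway ee))
  · obtain ⟨Q', hQ'⟩ : (⟨pp, inferInstance⟩ : PrimeSpectrum P.Ring) ∈
        Set.range (PrimeSpectrum.comap (algebraMap P.Ring B)) := by
      rw [PrimeSpectrum.localization_away_comap_range _ ee]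
      exact hee
    refine ⟨Q', PrimeSpectrum.ext ?_⟩
    change Ideal.comap ((algebraMap P.Ring B).comp (algebraMap A P.Ring)) Q'.asIdeal = _
    have h1 : Q'.asIdeal.comap (algebraMap P.Ring B) = pp := congrArg PrimeSpectrum.asIdeal hQ'
    have h2 : Q.asIdeal.comap (algebraMap Bv (Localization.Away g)) = (q : PrimeSpectrum Bv).asIdeal :=
      congrArg PrimeSpectrum.asIdeal hQ
    rw [← Ideal.comap_comap, h1, show pp = Q.asIdeal.comap φ₀.toRingHom from rfl, Ideal.comap_comap]
    have h3 : φ₀.toRingHom.comp (algebraMap A P.Ring) =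
        (algebraMap Bv (Localization.Away g)).comp ψ.hom := RingHom.ext fun b =>
      (φ₀.commutes b).trans (IsScalarTower.algebraMap_apply A Bv (Localization.Away g) b)
    rw [h3, ← Ideal.comap_comap, h2]
    have h4 : (Spec.map ψ) q = x := by rw [hψ, Scheme.Hom.comp_apply, hqV, hpt]
    exact congrArg PrimeSpectrum.asIdeal h4
  · let u : Localization.Away g →+* B :=
      (Ideal.Quotient.lift (RingHom.ker φ₀.toRingHom) (algebraMap P.Ring B) (fun k hk => by
        have h1 := congrArg (algebraMap P.Ring B) (hkill k hk)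
        rw [map_mul, map_zero] at h1
        exact (IsLocalization.Away.algebraMap_isUnit ee).mul_left_eq_zero.1 h1)).comp
      (RingHom.quotientKerEquivOfSurjective hφ₀).symm.toRingHom
    refine ⟨Spec.map (CommRingCat.ofHom u) ≫ ι, ?_⟩
    rw [Category.assoc, ← hi, ← Category.assoc]
    simp only [i, π, ← Spec.map_comp]
    congr 1
    ext b
    show u (φ₀ (algebraMap A P.Ring b)) = algebraMap P.Ring B (algebraMap A P.Ring b)
    have h5 : (RingHom.quotientKerEquivOfSurjective hφ₀).symm (φ₀ (algebraMap A P.Ring b)) =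
        Ideal.Quotient.mk _ (algebraMap A P.Ring b) := by
      rw [RingEquiv.symm_apply_eq]; rfl
    simp only [u, RingHom.comp_apply]
    rw [show (RingHom.quotientKerEquivOfSurjective hφ₀).symm.toRingHom (φ₀ (algebraMap A P.Ring b)) = _ from h5]
    rfl

end Groth.Agent.GluePair25
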