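import Groth.Agent.Lib.GluePair25.Lift
import Groth.Agent.Lib.Glueable27.Main
import Groth.Agent.Lib.AlgSpDescent.LocSurj
import Groth.Agent.Lib.AlgSpace.Diag

/-!
# Morphisms out of glueable algebraic spaces are determined on the pieces
-/

universe u

set_option backward.isDefEq.respectTransparency.types false

open CategoryTheory CategoryTheory.Limits AlgebraicGeometry TensorProduct
open AlgSp Groth.Agent.AlgSpace Groth.Agent.AlgSpDescent Groth.Agent.Glueable27

namespace Groth.Agent.GluePair25

/-- Maps out of a scheme are determined on an etale cover. -/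
theorem hom_ext_etale {S : Scheme.{u}} {T : Over S} {ι : Type u} (X : ι → Over S) (g : ∀ k, X k ⟶ T)
    [∀ k, Etale (g k).left] (hsurj : ∀ t : T.left, ∃ k, t ∈ Set.range (g k).left) {F : Sp S}
    {c d : (yon S).obj T ⟶ F} (h : ∀ k, (yon S).map (g k) ≫ c = (yon S).map (g k) ≫ d) : c = d := by
  let 𝒰 : Scheme.Cover.{u} Scheme.fppfPrecoverage.{u} T.left :=
    Scheme.Cover.mkOfCovers ι (fun k => (X k).left) (fun k => (g k).left)
      (fun t => (hsurj t).imp fun k hk => hk) (fun k => ⟨inferInstance, inferInstance⟩)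
  refine hom_ext_fppf 𝒰 fun (k : ι) => ?_
  let ek : Over.mk ((g k).left ≫ T.hom) ⟶ X k := Over.homMk (𝟙 _) (by simp)
  have he : overArrow (𝒰.f k) = ek ≫ g k := by
    ext
    exact (Category.id_comp _).symm
  refine (congrArg (fun m => (yon S).map m ≫ c) he).trans (Eq.trans ?_ (congrArg (fun m => (yon S).map m ≫ d) he).symm)
  exact (congrArg (· ≫ c) ((yon S).map_comp ek (g k))).trans ((Category.assoc _ _ _).trans ((congrArg (_ ≫ ·) (h k)).trans
    ((Category.assoc _ _ _).symm.trans (congrArg (· ≫ d) ((yon S).map_comp ek (g k)).symm))))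

variable {R : Type u} [CommRing R] {R' : Type u} [CommRing R'] [Algebra R R'] {f : R}

/-- The morphism of spectra over the base given by an algebra map. -/
noncomputable abbrev specMap {A B : Type u} [CommRing A] [CommRing B] [Algebra R A] [Algebra R B]
    (φ : A →ₐ[R] B) : specOver R B ⟶ specOver R A :=
  Over.homMk (Spec.map (CommRingCat.ofHom φ.toRingHom)) (by
    change Spec.map _ ≫ Spec.map _ = Spec.map _
    rw [← Spec.map_comp, ← CommRingCat.ofHom_comp]
    exact congrArg (fun r => Spec.map (CommRingCat.ofHom r)) φ.comp_algebraMap)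

/-- Two maps into a space agree if they agree over both pieces. -/
theorem eq_of_forall_piece (hq : EtGlue.QuotPowBijective R R' f) {A : Type u} [CommRing A] [Algebra R A]
    (hglue : ∀ (B : Type u) [CommRing B] [Algebra R B] (φ : A →ₐ[R] B), φ.toRingHom.Etale →
      EtGlue.IsGlueable R R' f B)
    {Z : Space (Spec (CommRingCat.of R))} (c d : (yon (Spec (CommRingCat.of R))).obj (specOver R A) ⟶ Z.obj)
    (h : ∀ (T : Type u) [CommRing T] [Algebra R T] (φ : A →ₐ[R] T), HasPiece R' f T →
      (yon _).map (specMap φ) ≫ c = (yon _).map (specMap φ) ≫ d) : c = d := by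
  have hd := Z.property.diag
  have sq := hd.isPullback (prod.lift c d)
  let E := hd.pullback (prod.lift c d)
  let e : E ⟶ specOver R A := hd.snd (prod.lift c d)
  have : LocallyOfFiniteType e.left := (repWith_diag_lft Z.property).2 _ _ _ sq
  have hc : (yon _).map e ≫ c = hd.fst (prod.lift c d) := by
    have := sq.w =≫ prod.fst
    simp only [Category.assoc, prod.lift_fst] at this
    simpa [e] using this.symm
  have hd' : (yon _).map e ≫ d = hd.fst (prod.lift c d) := by
    have := sq.w =≫ prod.snd
    simp only [Category.assoc, prod.lift_snd] at this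
    simpa [e] using this.symm
  have : Mono e := ⟨fun {W} x y hxy => by
    apply (yon _).map_injective
    refine sq.hom_ext ?_ (by rw [← Functor.map_comp, ← Functor.map_comp, hxy])
    rw [← hc, ← Functor.map_comp_assoc, ← Functor.map_comp_assoc, hxy]⟩
  have hlift := fun x => exists_etale_lift hq hglue e.left (fun T _ _ φ hT => by
    let s : specOver R T ⟶ E := hd.lift (g := prod.lift c d) ((yon _).map (specMap φ) ≫ c) (specMap φ) (by
      apply Limits.prod.hom_ext
      · refine ((Category.assoc _ _ _).trans ?_).trans (Eq.symm ((Category.assoc _ _ _).trans (congrArg (_ ≫ ·) (Limits.prod.lift_fst c d))))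
        exact (congrArg (_ ≫ ·) (Limits.prod.lift_fst _ _)).trans (Category.comp_id _)
      · refine ((Category.assoc _ _ _).trans ?_).trans (Eq.symm ((Category.assoc _ _ _).trans (congrArg (_ ≫ ·) (Limits.prod.lift_snd c d))))
        exact (congrArg (_ ≫ ·) (Limits.prod.lift_snd _ _)).trans ((Category.comp_id _).trans (h T φ hT)))
    exact ⟨s.left, congrArg CommaMorphism.left (hd.lift_snd (g := prod.lift c d)
      ((yon _).map (specMap φ) ≫ c) (specMap φ) _)⟩) x
  choose B hB₁ hB₂ φ hφ hx l hl using hlift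
  have : ∀ x : PrimeSpectrum A, Etale (specMap (φ x)).left := fun x =>
    (HasRingHomProperty.Spec_iff (P := @Etale)).2 (hφ x)
  refine hom_ext_etale (fun x : PrimeSpectrum A => specOver R (B x)) (fun x => specMap (φ x))
    (fun t => ⟨t, hx t⟩) fun x => ?_
  have hw : l x ≫ E.hom = (specOver R (B x)).hom := by
    rw [← Over.w e, ← Category.assoc, hl x]
    exact Over.w (specMap (φ x))
  have he : specMap (φ x) = Over.homMk (l x) hw ≫ e := by
    ext1
    exact (hl x).symm
  rw [he, Functor.map_comp_assoc, Functor.map_comp_assoc, hc, hd']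

/-- Maps out of a glueable space are determined over both pieces. -/
theorem eq_of_pieces (hq : EtGlue.QuotPowBijective R R' f) {Y Z : Space (Spec (CommRingCat.of R))}
    (hY : ∀ (A : Type u) [CommRing A] [Algebra R A] (g : (yon _).obj (specOver R A) ⟶ Y.obj),
      RepWith @Etale g → EtGlue.IsGlueable R R' f A)
    (a b : Y.obj ⟶ Z.obj)
    (h : ∀ (T : Type u) [CommRing T] [Algebra R T] (y : (yon _).obj (specOver R T) ⟶ Y.obj),
      HasPiece R' f T → y ≫ a = y ≫ b) : a = b := by
  obtain ⟨U, p, hpe, hps⟩ := Y.property.atlas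
  have hp : p ≫ a = p ≫ b := by
    let ψ : ∀ O : U.left.affineOpens, R →+* Γ(U.left, O.1) := fun O => (Spec.preimage (O.2.fromSpec ≫ U.hom)).hom
    letI inst : ∀ O : U.left.affineOpens, Algebra R Γ(U.left, O.1) := fun O => (ψ O).toAlgebra
    let c : ∀ O : U.left.affineOpens, specOver R Γ(U.left, O.1) ⟶ U := fun O => Over.homMk O.2.fromSpec (by
      change O.2.fromSpec ≫ U.hom = Spec.map (CommRingCat.ofHom (algebraMap R Γ(U.left, O.1)))
      exact (Spec.map_preimage _).symm)
    have : ∀ O : U.left.affineOpens, Etale (c O).left := fun O => inferInstanceAs (Etale O.2.fromSpec)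
    refine hom_ext_etale (fun O : U.left.affineOpens => specOver R Γ(U.left, O.1)) c (fun t => ?_) fun O => ?_
    · obtain ⟨_, ⟨V, hV, rfl⟩, htV, -⟩ :=
        U.left.isBasis_affineOpens.exists_subset_of_mem_open (Set.mem_univ t) isOpen_univ
      exact ⟨⟨V, hV⟩, hV.range_fromSpec.symm ▸ htV⟩
    · let q := (yon _).map (c O) ≫ p
      have hqe : RepWith @Etale q := repWith_comp ((repWith_yon_map_iff @Etale _).2 (this O)) hpe
      show (yon _).map (c O) ≫ p ≫ a = (yon _).map (c O) ≫ p ≫ b
      refine eq_of_forall_piece hq (fun B _ _ φ hφ => hY B ((yon _).map (specMap φ) ≫ q)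
        (repWith_comp ((repWith_yon_map_iff @Etale _).2 ((HasRingHomProperty.Spec_iff (P := @Etale)).2 hφ)) hqe))
        _ _ fun T _ _ φ hT => ?_
      simpa [q] using h T ((yon _).map (specMap φ) ≫ q) hT
  have := isLocallySurjective_of_etale hpe hps
  refine hom_ext_yon fun T x => ?_
  obtain ⟨𝒰, h𝒰⟩ := exists_cover_lift p x
  refine hom_ext_fppf 𝒰 fun k => ?_
  obtain ⟨l, hl⟩ := h𝒰 k
  rw [← Category.assoc, ← Category.assoc, ← hl, Category.assoc, Category.assoc, hp]

/-- A lift to a piece. -/
theorem eq_comp_of_piece {Y Z YU : Space (Spec (CommRingCat.of R))} {K : Type u} [CommRing K] [Algebra R K]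
    {a b : Y ⟶ Z} {u : YU ⟶ Y} {v : YU.obj ⟶ (yon _).obj (specOver R K)}
    {πY : Y.obj ⟶ (yon (Spec (CommRingCat.of R))).obj (Over.mk (𝟙 _))}
    {j : specOver R K ⟶ Over.mk (𝟙 _)} (hp : IsPullback u.hom v πY ((yon _).map j)) (hab : u ≫ a = u ≫ b)
    {T : Type u} [CommRing T] [Algebra R T] (ρ : K →ₐ[R] T) (y : (yon _).obj (specOver R T) ⟶ Y.obj) :
    y ≫ a.hom = y ≫ b.hom := by
  have hsub : ∀ (s t : (yon (Spec (CommRingCat.of R))).obj (specOver R T) ⟶ (yon _).obj (Over.mk (𝟙 _))),
      s = t := fun s t => by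
    obtain ⟨s', rfl⟩ := (yon _).map_surjective s
    obtain ⟨t', rfl⟩ := (yon _).map_surjective t
    exact congrArg _ (Over.mkIdTerminal.hom_ext s' t')
  have h : u.hom ≫ a.hom = u.hom ≫ b.hom := congrArg InducedCategory.Hom.hom hab
  rw [← hp.lift_fst y ((yon _).map (specMap ρ)) (hsub _ _), Category.assoc, Category.assoc, h]

end Groth.Agent.GluePair25
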